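import Groth.Agent.Lib.SliceMod5.Basic

/-!
# Sequences regular on the fibre of a flat module
-/

set_option autoImplicit false

universe u

open TensorProduct RingTheory.Sequence

namespace Groth.Agent.SliceMod5

variable {A B : Type u} [CommRing A] [CommRing B] [Algebra A B] (q : Ideal B) [q.IsPrime]

local notation "lmk" => LocalizedModule.mkLinearMap q.primeCompl

theorem mem_ideal_smul_of_smul_mem {N : Type u} [AddCommGroup N] [Module B N] (I : Ideal B) {s : B} (hs : s ∉ q)
    {x : LocalizedModule q.primeCompl N}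
    (h : s • x ∈ I • (⊤ : Submodule B (LocalizedModule q.primeCompl N))) : x ∈ I • (⊤ : Submodule B _) := by
  let e := (IsLocalizedModule.map_units (lmk N) (⟨s, hs⟩ : q.primeCompl)).unit
  have h1 : (↑e⁻¹ : Module.End B _) (s • x) = x := by
    show (↑e⁻¹ * ↑e : Module.End B (LocalizedModule q.primeCompl N)) x = x
    rw [Units.inv_mul]; rfl
  rw [← h1]
  have h2 := Submodule.mem_map_of_mem (f := (↑e⁻¹ : Module.End B _)) h
  rw [Submodule.map_smul''] at h2
  exact Submodule.smul_mono le_rfl le_top h2

theorem ker_map_mkQ' {M : Type u} [AddCommGroup M] [Module B M] (I : Ideal B) :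
    LinearMap.ker (IsLocalizedModule.map q.primeCompl (lmk M) (lmk (M ⧸ I • (⊤ : Submodule B M)))
      (I • (⊤ : Submodule B M)).mkQ) = I • (⊤ : Submodule B (LocalizedModule q.primeCompl M)) := by
  refine le_antisymm (fun x hx => ?_) ?_
  · obtain ⟨s, hs, m, hm⟩ := exists_mk q x
    refine mem_ideal_smul_of_smul_mem q I hs ?_
    rw [hm]
    have h1 : lmk (M ⧸ I • (⊤ : Submodule B M)) (Submodule.Quotient.mk m) = 0 := by
      rw [← Submodule.mkQ_apply, ← IsLocalizedModule.map_apply q.primeCompl (lmk M) (lmk _) _ m, ← hm, map_smul,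
        LinearMap.mem_ker.1 hx, smul_zero]
    obtain ⟨⟨u, hu⟩, hu'⟩ := (IsLocalizedModule.eq_zero_iff q.primeCompl _).1 h1
    change u • (Submodule.Quotient.mk m : M ⧸ I • (⊤ : Submodule B M)) = 0 at hu'
    rw [← Submodule.Quotient.mk_smul, Submodule.Quotient.mk_eq_zero] at hu'
    refine mem_ideal_smul_of_smul_mem q I hu ?_
    rw [← map_smul]
    have h2 := Submodule.mem_map_of_mem (f := lmk M) hu'
    rw [Submodule.map_smul''] at h2
    exact Submodule.smul_mono le_rfl le_top h2
  · refine Submodule.smul_le.2 fun r hr n _ => ?_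
    obtain ⟨t, ht, m, hm⟩ := exists_mk q n
    rw [LinearMap.mem_ker, map_smul]
    refine (Submodule.mem_bot (Localization.AtPrime q)).1
      (mem_of_smul_mem q (⊥ : Submodule (Localization.AtPrime q) _) ht ?_)
    rw [Submodule.mem_bot, smul_comm, ← map_smul, hm, IsLocalizedModule.map_apply, Submodule.mkQ_apply,
      ← map_smul, ← Submodule.Quotient.mk_smul,
      (Submodule.Quotient.mk_eq_zero _).2 (Submodule.smul_mem_smul hr (Submodule.mem_top (R := B) (x := m))), map_zero]

variable {M : Type u} [AddCommGroup M] [Module B M] [Module A M] [IsScalarTower A B M]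

theorem smul_top_le (p : Ideal A) {m : M} (h : m ∈ p • (⊤ : Submodule A M)) :
    m ∈ p.map (algebraMap A B) • (⊤ : Submodule B M) := by
  refine Submodule.smul_induction_on h (fun r hr n _ => ?_) fun a b ha hb => add_mem ha hb
  rw [← algebraMap_smul B r n]
  exact Submodule.smul_mem_smul (Ideal.mem_map_of_mem _ hr) trivial

theorem fibRegMod_of_isRegular (g : List B)
    (hreg : IsWeaklyRegular
      (LocalizedModule q.primeCompl (M ⊗[A] (q.comap (algebraMap A B)).ResidueField)) g) (i : ℕ) (hi : i < g.length) :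
    FibRegMod q A (M ⧸ Ideal.ofList (g.take i) • (⊤ : Submodule B M)) g[i] ∧
      (Ideal.ofList g • (⊤ : Submodule B (LocalizedModule q.primeCompl M)) = ⊤ →
        Ideal.ofList g • (⊤ : Submodule B
          (LocalizedModule q.primeCompl (M ⊗[A] (q.comap (algebraMap A B)).ResidueField))) = ⊤) := by
  let p := q.comap (algebraMap A B)
  let K := p.ResidueField
  let X := LocalizedModule q.primeCompl (M ⊗[A] K)
  let ι : M →ₗ[B] M ⊗[A] K :=
    { toFun := fun m => m ⊗ₜ (1 : K)
      map_add' := fun a b => TensorProduct.add_tmul a b _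
      map_smul' := fun b m => rfl }
  let ψ : M →ₗ[B] X := (lmk (M ⊗[A] K)).comp ι
  let P := p.map (algebraMap A B)
  let I := Ideal.ofList (g.take i)
  -- surjectivity up to units
  have hsurj : ∀ x : X, ∃ u ∉ q, ∃ m : M, u • x = ψ m := by
    have key : ∀ z : M ⊗[A] K, ∃ a ∉ p, ∃ m : M, a • z = m ⊗ₜ (1 : K) := by
      intro z
      induction z using TensorProduct.induction_on with
      | zero => exact ⟨1, fun h => Ideal.IsPrime.ne_top inferInstance ((Ideal.eq_top_iff_one p).2 h), 0, by simp⟩
      | tmul m k =>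
          obtain ⟨x, rfl⟩ := IsLocalRing.residue_surjective (R := Localization.AtPrime p) k
          obtain ⟨⟨a, c⟩, hac⟩ := IsLocalization.surj p.primeCompl x
          refine ⟨c, c.2, a • m, ?_⟩
          rw [TensorProduct.smul_tmul', TensorProduct.smul_tmul, TensorProduct.smul_tmul]
          congr 1
          have := congrArg (IsLocalRing.residue (Localization.AtPrime p)) hac
          rw [map_mul] at this
          rw [Algebra.smul_def, Algebra.smul_def, mul_one, mul_comm]
          exact this
      | add x y hx hy =>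
          obtain ⟨a, ha, m, hm⟩ := hx
          obtain ⟨b, hb, n, hn⟩ := hy
          refine ⟨a * b, fun h => ((Ideal.IsPrime.mem_or_mem inferInstance h).elim ha hb), b • m + a • n, ?_⟩
          rw [smul_add, TensorProduct.add_tmul, mul_comm, mul_smul, hm, mul_comm b a, mul_smul, hn,
            TensorProduct.smul_tmul', TensorProduct.smul_tmul']
    intro x
    obtain ⟨s, hs, z, hz⟩ := exists_mk q x
    obtain ⟨a, ha, m, hm⟩ := key z
    refine ⟨algebraMap A B a * s, fun h => ((Ideal.IsPrime.mem_or_mem inferInstance h).elim ha hs), m, ?_⟩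
    rw [mul_smul, hz, ← map_smul, algebraMap_smul, hm]
    rfl
  -- the kernel
  have hker : ∀ m : M, ψ m = 0 → ∃ u ∉ q, u • m ∈ P • (⊤ : Submodule B M) := by
    intro m hm
    obtain ⟨⟨t, ht⟩, ht'⟩ := (IsLocalizedModule.eq_zero_iff q.primeCompl (lmk (M ⊗[A] K))).1 hm
    have h1 : (1 : K) ⊗ₜ[A] (t • m) = 0 := by
      have := congrArg (TensorProduct.comm A M K) (show (t • m) ⊗ₜ[A] (1 : K) = 0 from ht')
      simpa using this
    obtain ⟨a, ha, ham⟩ := exists_smul_mem_of_tmul_one_eq_zero p h1
    refine ⟨algebraMap A B a * t, fun h => ((Ideal.IsPrime.mem_or_mem inferInstance h).elim ha ht), ?_⟩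
    rw [mul_smul, algebraMap_smul]
    exact smul_top_le p ham
  have hP0 : ∀ m ∈ P • (⊤ : Submodule B M), ψ m = 0 := by
    intro m hm
    refine Submodule.smul_induction_on hm (fun r hr n _ => ?_) fun a b ha hb => by rw [map_add, ha, hb, add_zero]
    induction hr using Submodule.span_induction generalizing n with
    | mem r hr =>
        obtain ⟨a, ha, rfl⟩ := hr
        show lmk _ ((algebraMap A B a • n) ⊗ₜ (1 : K)) = 0
        rw [algebraMap_smul, TensorProduct.smul_tmul, Algebra.smul_def, mul_one,
          Ideal.algebraMap_residueField_eq_zero.2 ha, TensorProduct.tmul_zero, map_zero]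
    | zero => simp
    | add a b _ _ ha hb => rw [add_smul, map_add, ha n trivial, hb n trivial, add_zero]
    | smul c b _ hb => rw [smul_eq_mul, mul_smul, map_smul, hb n trivial, smul_zero]
  have hgen : ∀ (J : Ideal B) (x : X), x ∈ J • (⊤ : Submodule B X) →
      ∃ u ∉ q, ∃ y ∈ J • (⊤ : Submodule B M), u • x = ψ y := by
    intro J x hx
    refine Submodule.smul_induction_on hx (fun r hr n _ => ?_) ?_
    · obtain ⟨u, hu, m, hm⟩ := hsurj n
      exact ⟨u, hu, r • m, Submodule.smul_mem_smul hr trivial, by rw [smul_comm, hm, map_smul]⟩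
    · rintro a b ⟨u, hu, y, hy, h1⟩ ⟨v, hv, z, hz, h2⟩
      refine ⟨u * v, fun h => ((Ideal.IsPrime.mem_or_mem inferInstance h).elim hu hv), v • y + u • z,
        add_mem (Submodule.smul_mem _ v hy) (Submodule.smul_mem _ u hz), ?_⟩
      rw [map_add, map_smul, map_smul, ← h1, ← h2, smul_add, smul_smul, smul_smul, mul_comm v u]
  have himg : ∀ (J : Ideal B) (y : M), y ∈ J • (⊤ : Submodule B M) → ψ y ∈ J • (⊤ : Submodule B X) := by
    intro J y hy
    have h2 := Submodule.mem_map_of_mem (f := ψ) hy
    rw [Submodule.map_smul''] at h2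
    exact Submodule.smul_mono le_rfl le_top h2
  refine ⟨fun m t ht htm => ?_, fun htop => ?_⟩
  · obtain ⟨m, rfl⟩ := Submodule.Quotient.mk_surjective _ m
    let π := (I • (⊤ : Submodule B M)).mkQ
    have hmap : ∀ y, π y ∈ P • (⊤ : Submodule B (M ⧸ I • (⊤ : Submodule B M))) ↔
        y ∈ P • (⊤ : Submodule B M) ⊔ I • (⊤ : Submodule B M) := fun y => by
      rw [← Submodule.range_mkQ (I • (⊤ : Submodule B M)), ← Submodule.map_top, ← Submodule.map_smul'',
        ← Submodule.mem_comap, Submodule.comap_map_mkQ, sup_comm]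
    rw [← Submodule.mkQ_apply, ← map_smul, ← map_smul, hmap] at htm
    obtain ⟨a, ha, b, hb, hab⟩ := Submodule.mem_sup.1 htm
    have h1 : t • g[i] • ψ m ∈ I • (⊤ : Submodule B X) := by
      rw [← map_smul, ← map_smul, ← hab, map_add, hP0 a ha, zero_add]
      exact himg I b hb
    have h2 : g[i] • ψ m ∈ I • (⊤ : Submodule B X) := mem_ideal_smul_of_smul_mem q I ht h1
    have h3 : ψ m ∈ I • (⊤ : Submodule B X) := by
      have hr := ((isWeaklyRegular_iff _ _).1 hreg) i hi
      rw [← Submodule.Quotient.mk_eq_zero] at h2 ⊢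
      rw [Submodule.Quotient.mk_smul] at h2
      exact hr.right_eq_zero_of_smul h2
    obtain ⟨u, hu, y, hy, huy⟩ := hgen I _ h3
    obtain ⟨w, hw, hwm⟩ := hker (u • m - y) (by rw [map_sub, map_smul, huy, sub_self])
    refine ⟨w * u, fun h => ((Ideal.IsPrime.mem_or_mem inferInstance h).elim hw hu), ?_⟩
    rw [← Submodule.mkQ_apply, ← map_smul, hmap, Submodule.mem_sup]
    exact ⟨_, hwm, w • y, Submodule.smul_mem _ w hy, by rw [smul_sub, mul_smul, sub_add_cancel]⟩
  · rw [eq_top_iff]
    rintro x -
    obtain ⟨u, hu, m, hm⟩ := hsurj x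
    refine mem_ideal_smul_of_smul_mem q _ hu ?_
    rw [hm]
    have h1 : lmk M m ∈ LinearMap.ker (IsLocalizedModule.map q.primeCompl (lmk M)
        (lmk (M ⧸ Ideal.ofList g • (⊤ : Submodule B M))) (Ideal.ofList g • (⊤ : Submodule B M)).mkQ) := by
      rw [ker_map_mkQ', htop]; trivial
    rw [LinearMap.mem_ker, IsLocalizedModule.map_apply] at h1
    obtain ⟨⟨v, hv⟩, hv'⟩ := (IsLocalizedModule.eq_zero_iff q.primeCompl _).1 h1
    change v • (Submodule.Quotient.mk m : M ⧸ Ideal.ofList g • (⊤ : Submodule B M)) = 0 at hv'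
    rw [← Submodule.Quotient.mk_smul, Submodule.Quotient.mk_eq_zero] at hv'
    refine mem_ideal_smul_of_smul_mem q _ hv ?_
    rw [← map_smul]
    exact himg _ _ hv'

variable [Algebra.FinitePresentation A B] [Module.FinitePresentation B M]

/-- A sequence regular on the fibre of a flat module is regular, with flat partial quotients. -/
theorem regular_and_flat (g : List B) (hg : ∀ b ∈ g, b ∈ q) (hflat : Module.Flat A (LocalizedModule q.primeCompl M))
    (hreg : IsRegular (LocalizedModule q.primeCompl (M ⊗[A] (q.comap (algebraMap A B)).ResidueField)) g) :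
    IsRegular (LocalizedModule q.primeCompl M) g ∧
      ∀ i ≤ g.length, Module.Flat A
        (LocalizedModule q.primeCompl (M ⧸ Ideal.ofList (g.take i) • (⊤ : Submodule B M))) := by
  have hfp : ∀ i, Module.FinitePresentation B (M ⧸ Ideal.ofList (g.take i) • (⊤ : Submodule B M)) := fun i => by
    have hfg : (Ideal.ofList (g.take i)).FG := ⟨((g.take i).finite_toSet).toFinset, by simp [Ideal.ofList]⟩
    exact Module.finitePresentation_of_surjective (Submodule.mkQ _) (Submodule.mkQ_surjective _)
      (by rw [Submodule.ker_mkQ]; exact Submodule.FG.smul hfg Module.Finite.fg_top)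
  have hfl : ∀ i ≤ g.length, Module.Flat A
      (LocalizedModule q.primeCompl (M ⧸ Ideal.ofList (g.take i) • (⊤ : Submodule B M))) ∧
      ∀ (hi : i < g.length), IsSMulRegular (LocalizedModule q.primeCompl
        (M ⧸ Ideal.ofList (g.take i) • (⊤ : Submodule B M))) g[i] := by
    have step : ∀ i, (hi : i < g.length) → Module.Flat A
        (LocalizedModule q.primeCompl (M ⧸ Ideal.ofList (g.take i) • (⊤ : Submodule B M))) →
        IsSMulRegular (LocalizedModule q.primeCompl (M ⧸ Ideal.ofList (g.take i) • (⊤ : Submodule B M))) g[i] ∧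
          Module.Flat A
            (LocalizedModule q.primeCompl (M ⧸ Ideal.ofList (g.take (i + 1)) • (⊤ : Submodule B M))) := by
      intro i hi hfli
      haveI := hfp i
      have hJ : Ideal.ofList (g.take (i + 1)) = Ideal.ofList (g.take i) ⊔ Ideal.span {g[i]} := by
        rw [List.take_succ_eq_append_getElem hi, Ideal.ofList_append, Ideal.ofList_singleton]
      have hle : Ideal.ofList (g.take i) • (⊤ : Submodule B M) ≤
          Ideal.ofList (g.take (i + 1)) • (⊤ : Submodule B M) := Submodule.smul_mono_left (hJ ▸ le_sup_left)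
      refine slice_step q g[i] (hg _ (List.getElem_mem hi)) hfli
        (fibRegMod_of_isRegular q g hreg.toIsWeaklyRegular i hi).1 (Submodule.factor hle)
        (Submodule.factor_surjective hle) ?_
      rw [Submodule.factor, Submodule.mapQ, Submodule.ker_liftQ, LinearMap.comp_id, Submodule.ker_mkQ, hJ,
        Submodule.sup_smul, Submodule.map_sup, Submodule.mkQ_map_self, bot_sup_eq, Submodule.map_smul'',
        Submodule.map_top, Submodule.range_mkQ]
    intro i hi
    induction i with
    | zero =>
        have h0 : Module.Flat A (LocalizedModule q.primeCompl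
            (M ⧸ Ideal.ofList (g.take 0) • (⊤ : Submodule B M))) := by
          haveI := hflat
          let e : (M ⧸ Ideal.ofList (g.take 0) • (⊤ : Submodule B M)) ≃ₗ[B] M :=
            Submodule.quotEquivOfEqBot _ (by rw [List.take_zero, Ideal.ofList_nil, Submodule.bot_smul])
          exact Module.Flat.of_linearEquiv
            ((IsLocalizedModule.linearEquiv q.primeCompl (lmk _) ((lmk M).comp e.toLinearMap)).restrictScalars A)
        exact ⟨h0, fun hi => (step 0 hi h0).1⟩
    | succ i ih =>
        have h0 := (step i (by omega) (ih (by omega)).1).2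
        exact ⟨h0, fun hi => (step (i + 1) hi h0).1⟩
  refine ⟨⟨(isWeaklyRegular_iff _ _).2 fun i hi => ?_, ?_⟩, fun i hi => (hfl i hi).1⟩
  · let ρ := IsLocalizedModule.map q.primeCompl (lmk M) (lmk (M ⧸ Ideal.ofList (g.take i) • (⊤ : Submodule B M)))
      (Ideal.ofList (g.take i) • (⊤ : Submodule B M)).mkQ
    let e := (Submodule.quotEquivOfEq _ _ (ker_map_mkQ' q (M := M) (Ideal.ofList (g.take i))).symm).trans
      (LinearMap.quotKerEquivOfSurjective ρ
        (IsLocalizedModule.map_surjective q.primeCompl _ _ _ (Submodule.mkQ_surjective _)))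
    exact (e.isSMulRegular_congr g[i]).2 ((hfl i hi.le).2 hi)
  · intro htop
    rcases Nat.eq_zero_or_pos g.length with hlen | hlen
    · obtain rfl := List.length_eq_zero_iff.1 hlen
      rw [Ideal.ofList_nil, Submodule.bot_smul] at htop
      have hsub : Subsingleton (LocalizedModule q.primeCompl M) :=
        (Submodule.subsingleton_iff B).1 (subsingleton_of_top_le_bot htop.le) 
      apply hreg.top_ne_smul
      rw [Ideal.ofList_nil, Submodule.bot_smul]
      refine (eq_bot_iff.2 fun x _ => ?_)
      obtain ⟨s, hs, z, hz⟩ := exists_mk q x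
      refine (Submodule.mem_bot (Localization.AtPrime q)).1
        (mem_of_smul_mem q (⊥ : Submodule (Localization.AtPrime q) _) hs ?_)
      rw [Submodule.mem_bot, hz]
      clear hz
      induction z using TensorProduct.induction_on with
      | zero => simp
      | tmul m k =>
          obtain ⟨⟨u, hu⟩, hu'⟩ := (IsLocalizedModule.eq_zero_iff q.primeCompl (lmk M)).1 (Subsingleton.elim (lmk M m) 0)
          refine (IsLocalizedModule.eq_zero_iff q.primeCompl (lmk _)).2 ⟨⟨u, hu⟩, ?_⟩
          show (u • m) ⊗ₜ[A] k = 0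
          rw [show u • m = 0 from hu', TensorProduct.zero_tmul]
      | add a b ha hb => rw [map_add, ha, hb, add_zero]
    · exact hreg.top_ne_smul ((fibRegMod_of_isRegular q g hreg.toIsWeaklyRegular 0 hlen).2 htop.symm).symm

end Groth.Agent.SliceMod5
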