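import Groth.Agent.Lib.FlatH4.SliceFlat
import Groth.Agent.Lib.FlatH4.FibreCritFP
import Groth.Agent.Lib.FlatH4.ModFlatAt
import Mathlib

/-!
# Slicing a flat module by elements regular on the fibre
-/

set_option autoImplicit false

universe u

open TensorProduct Polynomial

namespace Groth.Agent.SliceMod5

variable {B : Type u} [CommRing B] (q : Ideal B) [q.IsPrime]

local notation "lmk" => LocalizedModule.mkLinearMap q.primeCompl

section Localized

variable {M : Type u} [AddCommGroup M] [Module B M]

theorem exists_mk (x : LocalizedModule q.primeCompl M) : ∃ s ∉ q, ∃ m : M, s • x = lmk M m := by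
  obtain ⟨⟨m, s⟩, h⟩ := IsLocalizedModule.surj q.primeCompl (lmk M) x
  exact ⟨s, s.2, m, h⟩

theorem mem_of_smul_mem {L : Type u} [AddCommGroup L] [Module B L] [Module (Localization.AtPrime q) L]
    [IsScalarTower B (Localization.AtPrime q) L] (N : Submodule (Localization.AtPrime q) L) {s : B} (hs : s ∉ q)
    {x : L} (h : s • x ∈ N) : x ∈ N := by
  have hu := IsLocalization.map_units (Localization.AtPrime q) (⟨s, hs⟩ : q.primeCompl)
  obtain ⟨v, hv⟩ := hu.exists_left_inv
  have := N.smul_mem v h
  rwa [← algebraMap_smul (Localization.AtPrime q) s x, smul_smul, hv, one_smul] at this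

/-- The kernel of a localized quotient map. -/
theorem ker_map_mkQ {N : Type u} [AddCommGroup N] [Module B N] (π : M →ₗ[B] N) (I : Ideal B)
    (hπ : LinearMap.ker π = I • (⊤ : Submodule B M)) (x : LocalizedModule q.primeCompl M) :
    IsLocalizedModule.map q.primeCompl (lmk M) (lmk N) π x = 0 ↔
      x ∈ I.map (algebraMap B (Localization.AtPrime q)) • (⊤ : Submodule (Localization.AtPrime q) _) := by
  obtain ⟨s, hs, m, hm⟩ := exists_mk q x
  constructor
  · intro h
    refine mem_of_smul_mem q _ hs ?_
    rw [hm]
    have h1 : lmk N (π m) = 0 := by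
      rw [← IsLocalizedModule.map_apply q.primeCompl (lmk M) (lmk N) π m, ← hm, map_smul, h, smul_zero]
    obtain ⟨⟨u, hu⟩, hu'⟩ := (IsLocalizedModule.eq_zero_iff q.primeCompl (lmk N)).1 h1
    refine mem_of_smul_mem q _ hu ?_
    rw [← map_smul]
    have hmem : u • m ∈ I • (⊤ : Submodule B M) := hπ ▸ (by simpa [LinearMap.mem_ker] using hu')
    refine Submodule.smul_induction_on (p := fun y => lmk M y ∈ I.map (algebraMap B (Localization.AtPrime q)) •
      (⊤ : Submodule (Localization.AtPrime q) (LocalizedModule q.primeCompl M))) hmem (fun r hr n _ => ?_)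
      (fun a b ha hb => by rw [map_add]; exact add_mem ha hb)
    rw [map_smul, ← algebraMap_smul (Localization.AtPrime q) r (lmk M n)]
    exact Submodule.smul_mem_smul (Ideal.mem_map_of_mem _ hr) trivial
  · intro h
    let ρ := (IsLocalizedModule.map q.primeCompl (lmk M) (lmk N) π).extendScalarsOfIsLocalization q.primeCompl
      (Localization.AtPrime q)
    show ρ x = 0
    have hle : I.map (algebraMap B (Localization.AtPrime q)) • (⊤ : Submodule (Localization.AtPrime q) _) ≤
        LinearMap.ker ρ := by
      rw [Ideal.map, Ideal.span, Submodule.span_smul_eq, Submodule.set_smul_le_iff]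
      rintro _ y ⟨r, hr, rfl⟩ -
      show ρ (algebraMap B (Localization.AtPrime q) r • y) = 0
      obtain ⟨t, ht, n, hn⟩ := exists_mk q y
      have h0 : π (r • n) = 0 := LinearMap.mem_ker.1 (hπ ▸ Submodule.smul_mem_smul hr trivial)
      refine (Submodule.mem_bot (Localization.AtPrime q)).1 (mem_of_smul_mem q _ ht ?_)
      rw [Submodule.mem_bot, algebraMap_smul]
      show t • IsLocalizedModule.map q.primeCompl (lmk M) (lmk N) π (r • y) = 0
      rw [← map_smul, smul_comm, hn, ← map_smul, IsLocalizedModule.map_apply, h0, map_zero]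
    exact hle h

end Localized

variable {A : Type u} [CommRing A] [Algebra A B]

/-- An element of the fibre module dying comes from `p M` up to an element outside `p`. -/
theorem exists_smul_mem_of_tmul_one_eq_zero {M : Type u} [AddCommGroup M] [Module A M]
    (p : Ideal A) [p.IsPrime] {m : M} (hm : (1 : p.ResidueField) ⊗ₜ[A] m = 0) :
    ∃ a ∉ p, a • m ∈ p • (⊤ : Submodule A M) := by
  let W := M ⧸ p • (⊤ : Submodule A M)
  let w : W := Submodule.Quotient.mk m
  by_contra hne
  push Not at hne
  have hker : RingHom.ker (algebraMap A p.ResidueField) = p := Ideal.ker_algebraMap_residueField p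
  have hW : Module.IsTorsionBySet A W (RingHom.ker (algebraMap A p.ResidueField) : Set A) := fun z r => by
    obtain ⟨z, rfl⟩ := Submodule.Quotient.mk_surjective _ z
    obtain ⟨r, hr⟩ := r
    rw [hker] at hr
    show r • Submodule.Quotient.mk z = 0
    rw [← Submodule.Quotient.mk_smul, Submodule.Quotient.mk_eq_zero]
    exact Submodule.smul_mem_smul hr trivial
  have hq : Module.IsTorsionBySet A (A ⧸ RingHom.ker (algebraMap A p.ResidueField))
      (RingHom.ker (algebraMap A p.ResidueField) : Set A) := fun w r => by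
    obtain ⟨w, rfl⟩ := Submodule.Quotient.mk_surjective _ w
    rw [← Submodule.Quotient.mk_smul, Submodule.Quotient.mk_eq_zero]
    exact Ideal.mul_mem_right _ _ r.2
  let ū : A ⧸ RingHom.ker (algebraMap A p.ResidueField) →ₗ[A] W :=
    Submodule.liftQ _ (LinearMap.toSpanSingleton A W w) fun r hr => by
      rw [LinearMap.mem_ker]
      exact @hW w ⟨r, hr⟩
  have hū : Function.Injective ū := by
    rw [← LinearMap.ker_eq_bot, Submodule.ker_liftQ_eq_bot]
    intro r hr
    rw [hker]
    by_contra hrp
    apply hne r hrp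
    rw [LinearMap.mem_ker, LinearMap.toSpanSingleton_apply] at hr
    exact (Submodule.Quotient.mk_eq_zero _).1 hr
  have h1 : (1 : p.ResidueField) ⊗ₜ[A]
      (Submodule.Quotient.mk (1 : A) : A ⧸ RingHom.ker (algebraMap A p.ResidueField)) = 0 := by
    apply FlatH4.baseChange_field_injective hq hW ū hū
    rw [map_zero, LinearMap.baseChange_tmul, Submodule.liftQ_apply]
    show (1 : p.ResidueField) ⊗ₜ[A] ((1 : A) • w) = 0
    rw [one_smul]
    have := congrArg ((p • (⊤ : Submodule A M)).mkQ.lTensor p.ResidueField) hm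
    rw [map_zero, LinearMap.lTensor_tmul] at this
    exact this
  let v : p.ResidueField ⊗[A] (A ⧸ RingHom.ker (algebraMap A p.ResidueField)) →ₗ[p.ResidueField] p.ResidueField :=
    (Submodule.liftQ _ (Algebra.linearMap A p.ResidueField) le_rfl : _ →ₗ[A] p.ResidueField).liftBaseChange _
  have := congrArg v h1
  have h2 : v ((1 : p.ResidueField) ⊗ₜ[A]
      (Submodule.Quotient.mk (1 : A) : A ⧸ RingHom.ker (algebraMap A p.ResidueField))) =
      (1 : p.ResidueField) • algebraMap A p.ResidueField (1 : A) := rfl
  rw [h2, map_zero, map_one, one_smul] at this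
  exact one_ne_zero this

local notation "pB" => Ideal.map (algebraMap A B) (Ideal.comap (algebraMap A B) q)

/-- Regularity of `h` on the fibre at `q`, on elements. -/
def FibRegMod (A : Type u) [CommRing A] [Algebra A B] (M : Type u) [AddCommGroup M] [Module B M] (h : B) : Prop :=
  ∀ (m : M), ∀ t ∉ q, t • h • m ∈ (q.comap (algebraMap A B)).map (algebraMap A B) • (⊤ : Submodule B M) →
    ∃ s ∉ q, s • m ∈ (q.comap (algebraMap A B)).map (algebraMap A B) • (⊤ : Submodule B M)

variable {M : Type u} [AddCommGroup M] [Module B M] [Module A M] [IsScalarTower A B M]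

/-- Flatness over `A[X]` at `q`, `X` mapping to an element regular on the fibre. -/
theorem flat_polynomial [Algebra.FinitePresentation A B] [Module.FinitePresentation B M] [Algebra A[X] B]
    [IsScalarTower A A[X] B] [Module A[X] M] [IsScalarTower A[X] B M] (hh : algebraMap A[X] B X ∈ q)
    (hflat : Module.Flat A (LocalizedModule q.primeCompl M)) (H : FibRegMod q A M (algebraMap A[X] B X)) :
    Module.Flat A[X] (LocalizedModule q.primeCompl M) := by
  haveI : IsScalarTower A A[X] M := IsScalarTower.of_algebraMap_smul fun a m => by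
    rw [← algebraMap_smul B (algebraMap A A[X] a) m, ← IsScalarTower.algebraMap_apply A A[X] B, algebraMap_smul]
  let p := q.comap (algebraMap A B)
  haveI : q.LiesOver p := ⟨rfl⟩
  let Ap := Localization.AtPrime p
  let Bq := Localization.AtPrime q
  letI : Algebra Ap Bq := Localization.AtPrime.algebraOfLiesOver p q
  let h := algebraMap A[X] B X
  let ev : Ap[X] →+* Bq := Polynomial.eval₂RingHom (algebraMap Ap Bq) (algebraMap B Bq h)
  letI : Algebra A[X] Ap[X] := (Polynomial.mapRingHom (algebraMap A Ap)).toAlgebra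
  haveI : IsLocalization (p.primeCompl.map (C : A →+* A[X])) Ap[X] := Polynomial.isLocalization p.primeCompl Ap
  haveI : Module.Flat A[X] Ap[X] := IsLocalization.flat Ap[X] (p.primeCompl.map (C : A →+* A[X]))
  let M' := LocalizedModule q.primeCompl M
  letI : Module Ap[X] M' := Module.compHom M' ev
  have hev : ev.comp (algebraMap A[X] Ap[X]) = (algebraMap B Bq).comp (algebraMap A[X] B) := by
    refine Polynomial.ringHom_ext (fun a => ?_) ?_
    · show ev ((C a).map (algebraMap A Ap)) = algebraMap B Bq (algebraMap A[X] B (C a))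
      rw [Polynomial.map_C, show (C a : A[X]) = algebraMap A A[X] a from rfl, ← IsScalarTower.algebraMap_apply A A[X] B]
      simp [ev, ← IsScalarTower.algebraMap_apply]
    · show ev ((X : A[X]).map (algebraMap A Ap)) = _
      simp [ev, h]
  haveI : IsScalarTower A[X] Ap[X] M' := IsScalarTower.of_algebraMap_smul fun r x => by
    show ev (algebraMap A[X] Ap[X] r) • x = r • x
    rw [← RingHom.comp_apply, hev, RingHom.comp_apply, algebraMap_smul, algebraMap_smul]
  let P := p.map (algebraMap A A[X])
  let P' := P.map (algebraMap A[X] Ap[X])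
  let pb := p.map (algebraMap A B)
  have hP' : P' = (IsLocalRing.maximalIdeal Ap).map (C : Ap →+* Ap[X]) := by
    rw [← Localization.AtPrime.map_eq_maximalIdeal, Ideal.map_map]
    show (p.map _).map _ = _
    rw [Ideal.map_map]
    congr 1
    ext a
    simp [RingHom.algebraMap_toAlgebra, Ap]
  -- elements of `P' M'`
  have hmem : ∀ x : M', x ∈ P' • (⊤ : Submodule Ap[X] M') ↔
      IsLocalizedModule.map q.primeCompl (lmk M) (lmk (M ⧸ pb • (⊤ : Submodule B M)))
        (pb • (⊤ : Submodule B M)).mkQ x = 0 := by
    intro x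
    rw [ker_map_mkQ q _ pb (Submodule.ker_mkQ _)]
    have hpb : pb.map (algebraMap B Bq) = p.map (algebraMap A Bq) := by
      rw [Ideal.map_map, ← IsScalarTower.algebraMap_eq]
    constructor
    · intro hx
      refine Submodule.smul_induction_on hx (fun r hr n _ => ?_) fun a b ha hb => add_mem ha hb
      show ev r • n ∈ _
      refine Submodule.smul_mem_smul ?_ trivial
      have := Ideal.mem_map_of_mem ev hr
      rwa [Ideal.map_map, hev, ← Ideal.map_map, show P.map (algebraMap A[X] B) = pb by
        rw [Ideal.map_map, ← IsScalarTower.algebraMap_eq]] at this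
    · intro hx
      rw [hpb] at hx
      refine Submodule.smul_induction_on hx (fun r hr n _ => ?_) fun a b ha hb => add_mem ha hb
      induction hr using Submodule.span_induction generalizing n with
      | mem r hr =>
          obtain ⟨a, ha, rfl⟩ := hr
          have : algebraMap A Bq a = ev (algebraMap A[X] Ap[X] (algebraMap A A[X] a)) := by
            rw [← RingHom.comp_apply ev, hev, RingHom.comp_apply, ← IsScalarTower.algebraMap_apply A A[X] B,
              ← IsScalarTower.algebraMap_apply]
          rw [this]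
          exact Submodule.smul_mem_smul (Ideal.mem_map_of_mem _ (Ideal.mem_map_of_mem _ ha)) trivial
      | zero => rw [zero_smul]; exact zero_mem _
      | add a b _ _ ha hb => rw [add_smul]; exact add_mem (ha n trivial) (hb n trivial)
      | smul c b _ hb => rw [smul_eq_mul, mul_comm, mul_smul]; exact hb _ trivial
  have hX : ∀ x : M', (X : Ap[X]) • x ∈ P' • (⊤ : Submodule Ap[X] M') → x ∈ P' • (⊤ : Submodule Ap[X] M') := by
    intro x hx
    rw [hmem] at hx ⊢
    rw [show (X : Ap[X]) • x = h • x by
      show ev X • x = _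
      simp [ev, algebraMap_smul], map_smul] at hx
    obtain ⟨s, hs, m, hm⟩ := exists_mk q x
    let φ := IsLocalizedModule.map q.primeCompl (lmk M) (lmk (M ⧸ pb • (⊤ : Submodule B M)))
      (pb • (⊤ : Submodule B M)).mkQ
    have h1 : lmk (M ⧸ pb • (⊤ : Submodule B M)) (Submodule.Quotient.mk (h • m)) = 0 := by
      rw [← Submodule.mkQ_apply, ← IsLocalizedModule.map_apply q.primeCompl (lmk M)]
      show φ (lmk M (h • m)) = 0
      rw [map_smul, ← hm, map_smul, map_smul, smul_comm, show h • φ x = 0 from hx, smul_zero]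
    obtain ⟨⟨t, ht⟩, ht'⟩ := (IsLocalizedModule.eq_zero_iff q.primeCompl _).1 h1
    change t • (Submodule.Quotient.mk (h • m) : M ⧸ pb • (⊤ : Submodule B M)) = 0 at ht'
    rw [← Submodule.Quotient.mk_smul, Submodule.Quotient.mk_eq_zero] at ht'
    obtain ⟨u, hu, hum⟩ := H m t ht ht'
    refine (Submodule.mem_bot Bq).1 (mem_of_smul_mem q (⊥ : Submodule Bq _) hs ?_)
    rw [Submodule.mem_bot, ← map_smul, hm]
    refine (Submodule.mem_bot Bq).1 (mem_of_smul_mem q (⊥ : Submodule Bq _) hu ?_)
    rw [Submodule.mem_bot, ← map_smul, ← map_smul, IsLocalizedModule.map_apply, Submodule.mkQ_apply,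
      (Submodule.Quotient.mk_eq_zero _).2 hum, map_zero]
  haveI : Module.Flat A (LocalizedModule q.primeCompl M) := hflat
  let e : (IsLocalRing.ResidueField Ap)[X] ≃+* Ap[X] ⧸ P' :=
    (Ideal.polynomialQuotientEquivQuotientPolynomial (IsLocalRing.maximalIdeal Ap)).trans
      (Ideal.quotEquivOfEq hP'.symm)
  refine FlatH4.flat_localized_of_fibFlat_fp (A := A) (S := A[X]) q
    (FlatH4.fibFlat_of_flat_mod_localized (S' := Ap[X]) P q (lmk M)
      (FlatH4.flat_of_forall_injective e fun f hf z hz => ?_))
  obtain ⟨n, g, rfl, hg⟩ : ∃ (n : ℕ) (g : (IsLocalRing.ResidueField Ap)[X]), f = X ^ n * g ∧ g.coeff 0 ≠ 0 := by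
    obtain ⟨g, hg, hg'⟩ := exists_eq_pow_rootMultiplicity_mul_and_not_dvd f hf 0
    rw [map_zero, sub_zero] at hg hg'
    exact ⟨_, g, hg, fun h0 => hg' (X_dvd_iff.2 h0)⟩
  obtain ⟨G, rfl⟩ := Polynomial.map_surjective _ IsLocalRing.residue_surjective g
  have heG : e ((Polynomial.X : (IsLocalRing.ResidueField Ap)[X]) ^ n * G.map (IsLocalRing.residue Ap)) =
      Ideal.Quotient.mk P' (X ^ n * G) := by
    rw [show (Polynomial.X : (IsLocalRing.ResidueField Ap)[X]) ^ n * G.map (IsLocalRing.residue Ap) =
      (X ^ n * G).map (IsLocalRing.residue Ap) by rw [Polynomial.map_mul, Polynomial.map_pow, Polynomial.map_X]]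
    show Ideal.quotEquivOfEq hP'.symm (Ideal.polynomialQuotientEquivQuotientPolynomial _ _) = _
    rw [show IsLocalRing.residue Ap = Ideal.Quotient.mk (IsLocalRing.maximalIdeal Ap) from rfl]
    erw [Ideal.polynomialQuotientEquivQuotientPolynomial_map_mk]
    rfl
  obtain ⟨x, rfl⟩ := Submodule.Quotient.mk_surjective _ z
  rw [heG] at hz
  change Submodule.Quotient.mk ((X ^ n * G : Ap[X]) • x) = 0 at hz
  rw [Submodule.Quotient.mk_eq_zero] at hz ⊢
  have hG : IsUnit (ev G) := by
    rw [← X_mul_divX_add G, map_add, map_mul, show ev (C (G.coeff 0)) = algebraMap Ap Bq (G.coeff 0) by simp [ev],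
      show ev X = algebraMap B Bq h by simp [ev]]
    have hc : IsUnit (algebraMap Ap Bq (G.coeff 0)) := by
      refine IsUnit.map _ ?_
      rwa [Polynomial.coeff_map, IsLocalRing.residue_ne_zero_iff_isUnit] at hg
    by_contra hu
    have hm := (IsLocalRing.mem_maximalIdeal _).2 hu
    have h2 : algebraMap B Bq h * ev G.divX ∈ IsLocalRing.maximalIdeal Bq :=
      Ideal.mul_mem_right _ _ (((IsLocalization.AtPrime.to_map_mem_maximal_iff Bq q h _).2 hh))
    exact (IsLocalRing.mem_maximalIdeal _).1 ((add_mem_cancel_left h2).1 hm) hc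
  have key : ∀ k : ℕ, ∀ y : M', (X ^ k : Ap[X]) • y ∈ P' • (⊤ : Submodule Ap[X] M') →
      y ∈ P' • (⊤ : Submodule Ap[X] M') := by
    intro k
    induction k with
    | zero => intro y hy; simpa using hy
    | succ k ih => intro y hy; rw [pow_succ, mul_smul] at hy; exact hX y (ih _ hy)
  rw [mul_smul] at hz
  have h3 := (hmem _).1 (key n _ hz)
  rw [hmem]
  obtain ⟨v, hv⟩ := hG.exists_left_inv
  let φ := (IsLocalizedModule.map q.primeCompl (lmk M) (lmk (M ⧸ pb • (⊤ : Submodule B M)))
      (pb • (⊤ : Submodule B M)).mkQ).extendScalarsOfIsLocalization q.primeCompl Bq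
  have h4 : φ (ev G • x) = 0 := h3
  show φ x = 0
  rw [← one_smul Bq x, ← hv, mul_smul, map_smul, h4, smul_zero]

/-- One step of the slicing. -/
theorem slice_step [Algebra.FinitePresentation A B] [Module.FinitePresentation B M] (h : B) (hh : h ∈ q)
    (hflat : Module.Flat A (LocalizedModule q.primeCompl M)) (H : FibRegMod q A M h)
    {N : Type u} [AddCommGroup N] [Module B N] [Module A N] [IsScalarTower A B N] (π : M →ₗ[B] N)
    (hπ : Function.Surjective π) (hker : LinearMap.ker π = Ideal.span {h} • (⊤ : Submodule B M)) :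
    IsSMulRegular (LocalizedModule q.primeCompl M) h ∧ Module.Flat A (LocalizedModule q.primeCompl N) := by
  letI : Algebra A[X] B := (Polynomial.aeval h).toRingHom.toAlgebra
  haveI : IsScalarTower A A[X] B :=
    IsScalarTower.of_algebraMap_eq fun a => ((Polynomial.aeval h).commutes a).symm
  letI : Module A[X] M := Module.compHom M (algebraMap A[X] B)
  haveI : IsScalarTower A[X] B M := IsScalarTower.of_algebraMap_smul fun _ _ => rfl
  letI : Module A[X] N := Module.compHom N (algebraMap A[X] B)
  haveI : IsScalarTower A[X] B N := IsScalarTower.of_algebraMap_smul fun _ _ => rfl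
  have hX : algebraMap A[X] B X = h := Polynomial.aeval_X h
  let L := LocalizedModule q.primeCompl M
  haveI : IsScalarTower A A[X] L := IsScalarTower.of_algebraMap_smul fun a x => by
    rw [← algebraMap_smul B (algebraMap A A[X] a) x, ← IsScalarTower.algebraMap_apply A A[X] B, algebraMap_smul]
  haveI hfl : Module.Flat A[X] L := flat_polynomial q (by rw [hX]; exact hh) hflat (by rw [hX]; exact H)
  refine ⟨fun x y hxy => ?_, ?_⟩
  · have hr : IsSMulRegular L (X : A[X]) :=
      Module.Flat.isSMulRegular_of_nonZeroDivisors Polynomial.X_mem_nonzeroDivisors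
    refine hr ?_
    show (X : A[X]) • x = (X : A[X]) • y
    rw [← algebraMap_smul B (X : A[X]) x, ← algebraMap_smul B (X : A[X]) y, hX]
    exact hxy
  · let I : Ideal A[X] := Ideal.span {X}
    haveI : Module.Flat A (A[X] ⧸ I) := by
      have e : (A[X] ⧸ Ideal.span ({X - Polynomial.C (0 : A)} : Set A[X])) ≃ₐ[A] A :=
        Polynomial.quotientSpanXSubCAlgEquiv 0
      rw [map_zero, sub_zero] at e
      exact Module.Flat.of_linearEquiv e.toLinearEquiv
    haveI : Module.Flat A ((A[X] ⧸ I) ⊗[A[X]] L) := Module.Flat.trans A (A[X] ⧸ I) _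
    let φ := IsLocalizedModule.map q.primeCompl (lmk M) (lmk N) π
    let φ' : L →ₗ[A[X]] LocalizedModule q.primeCompl N := φ.restrictScalars A[X]
    have hsurj : Function.Surjective φ' := IsLocalizedModule.map_surjective q.primeCompl (lmk M) (lmk N) π hπ
    have hI : (I • ⊤ : Submodule A[X] L) = LinearMap.ker φ' := by
      ext x
      rw [LinearMap.mem_ker]
      show _ ↔ φ x = 0
      rw [ker_map_mkQ q π _ hker, Ideal.map_span, Set.image_singleton, Submodule.ideal_span_singleton_smul,
        Submodule.ideal_span_singleton_smul, Submodule.mem_smul_pointwise_iff_exists,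
        Submodule.mem_smul_pointwise_iff_exists]
      simp only [algebraMap_smul, Submodule.mem_top, true_and]
      refine exists_congr fun y => ?_
      rw [← algebraMap_smul B (X : A[X]) y, hX]
    let e₁ : (A[X] ⧸ I) ⊗[A[X]] L ≃ₗ[A[X]] L ⧸ (I • ⊤ : Submodule A[X] L) :=
      TensorProduct.quotTensorEquivQuotSMul L I
    haveI : IsScalarTower A A[X] (LocalizedModule q.primeCompl N) := IsScalarTower.of_algebraMap_smul fun a x => by
      rw [← algebraMap_smul B (algebraMap A A[X] a) x, ← IsScalarTower.algebraMap_apply A A[X] B, algebraMap_smul]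
    exact Module.Flat.of_linearEquiv
      ((e₁.trans ((Submodule.quotEquivOfEq _ _ hI).trans (φ'.quotKerEquivOfSurjective hsurj))).restrictScalars A).symm

end Groth.Agent.SliceMod5
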